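import Mathlib
import Cfsg.Agent.Lib.Extraspecial.Structure
import Cfsg.Agent.Lib.Extraspecial.SquareCount

/-!
Four pairwise non-commuting involutions with common commutator, and the automorphisms permuting them.
-/

set_option autoImplicit false

open scoped commutatorElement

namespace Cfsg.Agent.Lib.MinusThirtyTwo

universe u

/-- Adjoining an involution normalising a subgroup at most doubles the order. -/
theorem card_sup_le {G : Type u} [Group G] [Finite G] (K : Subgroup G) {g : G} (hg : g * g = 1)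
    (hK : ∀ x ∈ K, g * x * g⁻¹ ∈ K) :
    Nat.card ↥(K ⊔ Subgroup.zpowers g) ≤ Nat.card K * 2 := by
  classical
  haveI : Fintype G := Fintype.ofFinite G
  have hgi : g⁻¹ = g := inv_eq_of_mul_eq_one_right hg
  let W : Subgroup G :=
    { carrier := {w | ∃ x ∈ K, w = x ∨ w = x * g}
      one_mem' := ⟨1, K.one_mem, Or.inl rfl⟩
      mul_mem' := by
        rintro a b ⟨x, hx, ha⟩ ⟨y, hy, hb⟩
        rcases ha with rfl | rfl <;> rcases hb with rfl | rfl
        · exact ⟨a * b, K.mul_mem hx hy, Or.inl rfl⟩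
        · exact ⟨a * y, K.mul_mem hx hy, Or.inr (mul_assoc _ _ _).symm⟩
        · exact ⟨x * (g * b * g⁻¹), K.mul_mem hx (hK b hy), Or.inr (by group)⟩
        · refine ⟨x * (g * y * g⁻¹), K.mul_mem hx (hK y hy), Or.inl ?_⟩
          rw [hgi]; simp only [mul_assoc]
      inv_mem' := by
        rintro a ⟨x, hx, rfl | rfl⟩
        · exact ⟨a⁻¹, K.inv_mem hx, Or.inl rfl⟩
        · refine ⟨g * x⁻¹ * g⁻¹, hK _ (K.inv_mem hx), Or.inr ?_⟩
          rw [mul_inv_rev, inv_mul_cancel_right, hgi] }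
  have hle : K ⊔ Subgroup.zpowers g ≤ W :=
    sup_le (fun x hx => ⟨x, hx, Or.inl rfl⟩) (Subgroup.zpowers_le.mpr ⟨1, K.one_mem, Or.inr (one_mul g).symm⟩)
  refine le_trans (Subgroup.card_le_of_le hle) ?_
  have hsurj : Function.Surjective (fun t : K × Bool =>
      (if t.2 then ⟨(t.1 : G) * g, t.1, t.1.2, Or.inr rfl⟩ else ⟨t.1, t.1, t.1.2, Or.inl rfl⟩ : W)) := by
    rintro ⟨w, x, hx, hw | hw⟩
    · exact ⟨(⟨x, hx⟩, false), Subtype.ext (by simp [hw])⟩
    · exact ⟨(⟨x, hx⟩, true), Subtype.ext (by simp [hw])⟩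
  refine le_trans (Nat.card_le_card_of_surjective _ hsurj) ?_
  simp

/-- Four involutions with all mutual commutators equal to a central `c` of order at most two. -/
theorem card_closure_le {G : Type u} [Group G] [Finite G] (g : Fin 4 → G) (c : G) (hc : c * c = 1)
    (hcz : ∀ i, Commute (g i) c) (h2 : ∀ i, g i * g i = 1) (hcom : ∀ i j, i ≠ j → ⁅g i, g j⁆ = c) :
    Nat.card ↥(Subgroup.closure (Set.range g)) ≤ 32 := by
  have hconj : ∀ i j, i ≠ j → g i * g j * (g i)⁻¹ = c * g j := fun i j h => by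
    rw [← hcom i j h, commutatorElement_def, inv_mul_cancel_right]
  set K0 := Subgroup.zpowers c
  set K1 := K0 ⊔ Subgroup.zpowers (g 0)
  set K2 := K1 ⊔ Subgroup.zpowers (g 1)
  set K3 := K2 ⊔ Subgroup.zpowers (g 2)
  set K4 := K3 ⊔ Subgroup.zpowers (g 3)
  have m0 : ∀ i, ∀ x ∈ K0, g i * x * (g i)⁻¹ ∈ K0 := fun i x hx => by
    obtain ⟨k, rfl⟩ := Subgroup.mem_zpowers_iff.mp hx
    rw [((hcz i).zpow_right k).eq, mul_inv_cancel_right]
    exact hx
  have step : ∀ (K : Subgroup G) (i j : Fin 4), i ≠ j → c ∈ K → (∀ x ∈ K, g i * x * (g i)⁻¹ ∈ K) →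
      ∀ x ∈ K ⊔ Subgroup.zpowers (g j), g i * x * (g i)⁻¹ ∈ K ⊔ Subgroup.zpowers (g j) := by
    intro K i j hij hcK hK x hx
    have hle : K ⊔ Subgroup.zpowers (g j) ≤
        (K ⊔ Subgroup.zpowers (g j)).comap (MulAut.conj (g i)).toMonoidHom := by
      refine sup_le (fun y hy => Subgroup.mem_sup_left (hK y hy)) (Subgroup.zpowers_le.mpr ?_)
      rw [Subgroup.mem_comap]
      show g i * g j * (g i)⁻¹ ∈ _
      rw [hconj i j hij]
      exact Subgroup.mul_mem_sup hcK (Subgroup.mem_zpowers _)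
    exact hle hx
  have c0 : c ∈ K0 := Subgroup.mem_zpowers c
  have c1 : c ∈ K1 := Subgroup.mem_sup_left c0
  have c2 : c ∈ K2 := Subgroup.mem_sup_left c1
  have hK0 : Nat.card K0 ≤ 2 := by
    rw [Nat.card_zpowers]
    exact orderOf_le_of_pow_eq_one two_pos (by rw [sq]; exact hc)
  have h1 : Nat.card K1 ≤ Nat.card K0 * 2 := card_sup_le K0 (h2 0) (m0 0)
  have h2' : Nat.card K2 ≤ Nat.card K1 * 2 := card_sup_le K1 (h2 1) (step K0 1 0 (by decide) c0 (m0 1))
  have h3 : Nat.card K3 ≤ Nat.card K2 * 2 :=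
    card_sup_le K2 (h2 2) (step K1 2 1 (by decide) c1 (step K0 2 0 (by decide) c0 (m0 2)))
  have h4 : Nat.card K4 ≤ Nat.card K3 * 2 :=
    card_sup_le K3 (h2 3) (step K2 3 2 (by decide) c2
      (step K1 3 1 (by decide) c1 (step K0 3 0 (by decide) c0 (m0 3))))
  have hle : Subgroup.closure (Set.range g) ≤ K4 := by
    rw [Subgroup.closure_le]
    rintro _ ⟨i, rfl⟩
    fin_cases i
    · exact Subgroup.mem_sup_left (Subgroup.mem_sup_left (Subgroup.mem_sup_left
        (Subgroup.mem_sup_right (Subgroup.mem_zpowers _))))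
    · exact Subgroup.mem_sup_left (Subgroup.mem_sup_left (Subgroup.mem_sup_right (Subgroup.mem_zpowers _)))
    · exact Subgroup.mem_sup_left (Subgroup.mem_sup_right (Subgroup.mem_zpowers _))
    · exact Subgroup.mem_sup_right (Subgroup.mem_zpowers _)
  have := Subgroup.card_le_of_le hle
  omega

/-- Two such generating quadruples of a group of order 32 are related by an automorphism. -/
theorem exists_aut {P : Type u} [Group P] [Finite P] (h32 : Nat.card P = 32) {z : P} (hz : z * z = 1)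
    (hzc : ∀ x : P, Commute x z) {a b : Fin 4 → P} (ha2 : ∀ i, a i * a i = 1)
    (hb2 : ∀ i, b i * b i = 1) (hac : ∀ i j, i ≠ j → ⁅a i, a j⁆ = z)
    (hbc : ∀ i j, i ≠ j → ⁅b i, b j⁆ = z) (hag : Subgroup.closure (Set.range a) = ⊤)
    (hbg : Subgroup.closure (Set.range b) = ⊤) : ∃ φ : MulAut P, ∀ i, φ (a i) = b i := by
  let g : Fin 4 → P × P := fun i => (a i, b i)
  set S := Subgroup.closure (Set.range g)
  have hS : Nat.card S ≤ 32 := by
    refine card_closure_le g (z, z) (by simp [hz]) (fun i => Prod.ext (hzc _) (hzc _))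
      (fun i => Prod.ext (ha2 i) (hb2 i)) fun i j h => Prod.ext (hac i j h) (hbc i j h)
  have hsurj : ∀ (π : P × P →* P) (c : Fin 4 → P), (∀ i, π (g i) = c i) →
      Subgroup.closure (Set.range c) = ⊤ → Function.Surjective (π.comp S.subtype) := by
    intro π c hc hgen y
    have : y ∈ S.map π := by
      have hle : Subgroup.closure (Set.range c) ≤ S.map π := by
        rw [Subgroup.closure_le]
        rintro _ ⟨i, rfl⟩
        exact ⟨g i, Subgroup.subset_closure ⟨i, rfl⟩, hc i⟩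
      rw [hgen] at hle
      exact hle (Subgroup.mem_top y)
    obtain ⟨w, hw, rfl⟩ := this
    exact ⟨⟨w, hw⟩, rfl⟩
  have h1 := hsurj (MonoidHom.fst P P) a (fun i => rfl) hag
  have h2 := hsurj (MonoidHom.snd P P) b (fun i => rfl) hbg
  have hcard : Nat.card S = Nat.card P := by
    have := Nat.card_le_card_of_surjective _ h1
    omega
  have e1 := (Nat.bijective_iff_surjective_and_card _).mpr ⟨h1, hcard⟩
  have e2 := (Nat.bijective_iff_surjective_and_card _).mpr ⟨h2, hcard⟩
  refine ⟨(MulEquiv.ofBijective _ e1).symm.trans (MulEquiv.ofBijective _ e2), fun i => ?_⟩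
  have hi : (MulEquiv.ofBijective _ e1).symm (a i) = ⟨g i, Subgroup.subset_closure ⟨i, rfl⟩⟩ := by
    rw [MulEquiv.symm_apply_eq]; rfl
  rw [MulEquiv.trans_apply, hi]
  rfl

end Cfsg.Agent.Lib.MinusThirtyTwo
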